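import Groth.Agent.MeroX.DivDim
import Groth.Agent.H23.StalkPrimes
import Groth.Agent.FlatLoc6.EquidimCat
import Mathlib.AlgebraicGeometry.Morphisms.ClosedImmersion
import Mathlib.AlgebraicGeometry.IdealSheaf.Functorial

/-!
# Proper intersection of an effective Cartier divisor with an integral closed subscheme
-/

universe u

open CategoryTheory AlgebraicGeometry IsLocalRing

namespace Groth.Agent.ZBCartier

variable {X Z : Scheme.{u}}

theorem one_le_stalk_dim [IsLocallyNoetherian X] (D : X.IdealSheafData)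
    (hD : BlowUp.IsEffCartierIdeal D) (y : X) (hy : y ∈ (D.support : Set X)) :
    1 ≤ ringKrullDim (X.presheaf.stalk y) := by
  obtain ⟨U, hU, f, hf, hfD⟩ := hD y
  rw [← IsLocalRing.maximalIdeal_height_eq_ringKrullDim]
  have h1 := Ideal.one_le_height_span_singleton_of_mem_nonZeroDivisors
    (MeroX.germ_mem_nonZeroDivisors U.2 hf y hU)
  have h2 : Ideal.span {X.presheaf.germ U.1 y hU f} ≤ IsLocalRing.maximalIdeal _ := by
    rw [Ideal.span_le, Set.singleton_subset_iff, SetLike.mem_coe, IsLocalRing.mem_maximalIdeal,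
      mem_nonunits_iff]
    intro hu
    refine (Scheme.mem_zeroLocus_iff _ _ _).mp
      ((Scheme.IdealSheafData.mem_support_iff_of_mem (U := U) hU).mp hy) f ?_
      ((Scheme.mem_basicOpen _ _ _ hU).mpr hu)
    rw [hfD]
    exact Ideal.mem_span_singleton_self f
  exact_mod_cast h1.trans (Ideal.height_mono h2)

theorem one_le_iInf [IsLocallyNoetherian X] (D : X.IdealSheafData)
    (hD : BlowUp.IsEffCartierIdeal D) :
    (1 : WithBot ℕ∞) ≤ ⨅ y : (D.support : Set X), ringKrullDim (X.presheaf.stalk y.1) :=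
  le_iInf fun y => one_le_stalk_dim D hD y.1 y.2

theorem exists_maximal_generization [IsLocallyNoetherian X] (D : X.IdealSheafData) (ζ : X)
    (hζ : ζ ∈ (D.support : Set X)) :
    ∃ y ∈ (D.support : Set X), y ⤳ ζ ∧ ∀ y' ∈ (D.support : Set X), y' ⤳ y → y' = y := by
  have hcl : IsClosed (D.support : Set X) := D.support.isClosed
  let T := {s : PrimeSpectrum (X.presheaf.stalk ζ) | X.fromSpecStalk ζ s ∈ (D.support : Set X)}
  have hT : T.Nonempty := ⟨closedPoint _, by
    show X.fromSpecStalk ζ (closedPoint _) ∈ (D.support : Set X)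
    rwa [Scheme.fromSpecStalk_closedPoint]⟩
  obtain ⟨s, hs, hmin⟩ := WellFounded.has_min
    (InvImage.wf (fun s : PrimeSpectrum (X.presheaf.stalk ζ) => s.asIdeal.height) wellFounded_lt)
    T hT
  refine ⟨_, hs, CDiv6.fromSpecStalk_specializes s, fun y' hy' hspec => ?_⟩
  have h' : y' ⤳ ζ := hspec.trans (CDiv6.fromSpecStalk_specializes s)
  have hle : CDiv6.primeOf h' ≤ s := by
    refine (PrimeSpectrum.le_iff_specializes _ _).2
      ((X.fromSpecStalk ζ).isEmbedding.isInducing.specializes_iff.1 ?_)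
    rw [CDiv6.fromSpecStalk_primeOf]
    exact hspec
  rcases hle.eq_or_lt with heq | hlt
  · rw [← CDiv6.fromSpecStalk_primeOf h', heq]
  · refine absurd (Ideal.height_strict_mono_of_isPrime_of_isPrime hlt) (hmin _ ?_)
    show X.fromSpecStalk ζ (CDiv6.primeOf h') ∈ (D.support : Set X)
    rwa [CDiv6.fromSpecStalk_primeOf]

theorem iInf_eq_one [IsLocallyNoetherian X] (D : X.IdealSheafData)
    (hD : BlowUp.IsEffCartierIdeal D) (ζ : X) (hζ : ζ ∈ (D.support : Set X)) :
    (⨅ y : (D.support : Set X), ringKrullDim (X.presheaf.stalk y.1)) = 1 := by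
  obtain ⟨y, hy, -, hmax⟩ := exists_maximal_generization D ζ hζ
  refine le_antisymm ?_ (one_le_iInf D hD)
  refine le_of_le_of_eq (iInf_le (fun y : (D.support : Set X) => ringKrullDim (X.presheaf.stalk y.1))
    (⟨y, hy⟩ : (D.support : Set X))) ?_
  exact MeroX.stalk_dim_eq_one D hD y hy hmax

theorem isEquidim_stalk [IrreducibleSpace X] (x : X) : EGA4.IsEquidim (X.presheaf.stalk x) := by
  intro p hp
  have hbot : ∀ q : Ideal (X.presheaf.stalk x), q.IsPrime →
      (CDiv6.primeOf (genericPoint_specializes x)).asIdeal ≤ q := by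
    intro q hq
    obtain ⟨y, hy, rfl⟩ := H23.StalkPrimes.exists_point q
    exact (H23.StalkPrimes.primeOf_le_iff hy (genericPoint_specializes x)).2
      (genericPoint_specializes y)
  have h0 : ringKrullDim (X.presheaf.stalk x ⧸ p) = ringKrullDim (X.presheaf.stalk x) := by
    refine le_antisymm (ringKrullDim_quotient_le p) ?_
    have hpP : ∀ q : PrimeSpectrum (X.presheaf.stalk x), p ≤ q.asIdeal := fun q =>
      (hp.2 ⟨(CDiv6.primeOf (genericPoint_specializes x)).2, bot_le⟩ (hbot p hp.1.1)).trans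
        (hbot _ q.2)
    rw [ringKrullDim_quotient]
    exact Order.krullDim_le_of_strictMono (fun q => ⟨q, fun a ha => hpP q ha⟩) fun a b h => h
  exact h0

theorem ker_stalkMap_eq_primeOf (i : Z ⟶ X) [IsIntegral Z] (z : Z) :
    RingHom.ker (i.stalkMap z).hom =
      (CDiv6.primeOf ((genericPoint_specializes z).map i.continuous)).asIdeal := by
  rw [← H23.StalkPrimes.comap_primeOf i (genericPoint_specializes z), RingHom.ker]
  congr 1
  obtain ⟨y, hy, hQ⟩ := H23.StalkPrimes.exists_point (X := Z) (x := z) ⊥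
  refine le_antisymm bot_le ?_
  rw [← hQ]
  exact (H23.StalkPrimes.primeOf_le_iff hy (genericPoint_specializes z)).2
    (genericPoint_specializes y)

theorem stalk_dim_add [IsLocallyNoetherian X] [IrreducibleSpace X] (i : Z ⟶ X)
    [IsClosedImmersion i] [IsIntegral Z] (z : Z)
    (hcat : CAlg.IsCatenary (X.presheaf.stalk (i z))) :
    ringKrullDim (X.presheaf.stalk (i z)) =
      ringKrullDim (X.presheaf.stalk (i (genericPoint Z))) + ringKrullDim (Z.presheaf.stalk z) := by
  let h := (genericPoint_specializes z).map i.continuous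
  let p := (CDiv6.primeOf h).asIdeal
  have h1 := FlatLoc6.height_add_ringKrullDim_quotient (isEquidim_stalk (i z)) hcat p
  letI := (X.presheaf.stalkSpecializes h).hom.toAlgebra
  haveI := H23.StalkPrimes.isLocalization_primeOf h
  rw [IsLocalization.AtPrime.ringKrullDim_eq_height p (X.presheaf.stalk (i (genericPoint Z)))]
  rw [← h1]
  congr 1
  exact ringKrullDim_eq_of_ringEquiv
    ((Ideal.quotEquivOfEq (ker_stalkMap_eq_primeOf i z).symm).trans
      (RingHom.quotientKerEquivOfSurjective (i.stalkMap_surjective z)))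

theorem intersectProperly [IsLocallyNoetherian X] [IrreducibleSpace X]
    (hcat : ∀ x : X, CAlg.IsCatenary (X.presheaf.stalk x))
    (D : X.IdealSheafData) (hD : BlowUp.IsEffCartierIdeal D)
    (i : Z ⟶ X) [IsClosedImmersion i] [IsIntegral Z] (hc : BlowUp.IsEffCartierIdeal (D.comap i))
    (ζ : X) (hζ : ζ ∈ (D.support : Set X) ∩ Set.range i.base)
    (hmax : ∀ ζ' : X, ζ' ∈ (D.support : Set X) ∩ Set.range i.base → ζ' ⤳ ζ → ζ' = ζ) :
    ringKrullDim (X.presheaf.stalk ζ) =
      (⨅ y : (D.support : Set X), ringKrullDim (X.presheaf.stalk y.1)) +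
        ringKrullDim (X.presheaf.stalk (i (genericPoint Z))) := by
  obtain ⟨hζD, z, rfl⟩ := hζ
  haveI : IsLocallyNoetherian Z := LocallyOfFiniteType.isLocallyNoetherian i
  rw [iInf_eq_one D hD _ hζD, stalk_dim_add i z (hcat _), add_comm (1 : WithBot ℕ∞)]
  congr 1
  have hsupp : ((D.comap i).support : Set Z) = i ⁻¹' (D.support : Set X) := by
    rw [Scheme.IdealSheafData.support_comap]
    rfl
  refine MeroX.stalk_dim_eq_one (D.comap i) hc z (by rw [hsupp]; exact hζD) fun y hy hspec => ?_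
  rw [hsupp] at hy
  exact i.isClosedEmbedding.injective (hmax _ ⟨hy, y, rfl⟩ (hspec.map i.continuous))

theorem not_subset [IsLocallyNoetherian X] (D : X.IdealSheafData) (hD : BlowUp.IsEffCartierIdeal D)
    (i : Z ⟶ X) [IsIntegral Z]
    (hprop : ∀ ζ : X, ζ ∈ (D.support : Set X) ∩ Set.range i.base →
        (∀ ζ' : X, ζ' ∈ (D.support : Set X) ∩ Set.range i.base → ζ' ⤳ ζ → ζ' = ζ) →
        ringKrullDim (X.presheaf.stalk ζ) =
          (⨅ y : (D.support : Set X), ringKrullDim (X.presheaf.stalk y.1)) +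
            ringKrullDim (X.presheaf.stalk (i (genericPoint Z)))) :
    ¬ Set.range i.base ⊆ (D.support : Set X) := by
  intro hsub
  have h := hprop (i (genericPoint Z)) ⟨hsub ⟨_, rfl⟩, _, rfl⟩ fun ζ' hζ' hspec => by
    obtain ⟨z, rfl⟩ := hζ'.2
    exact (hspec.antisymm ((genericPoint_specializes z).map i.continuous)).eq
  obtain ⟨n, hn⟩ := ENat.ne_top_iff_exists.1
    (Ideal.height_ne_top (maximalIdeal.isMaximal (X.presheaf.stalk (i (genericPoint Z)))).ne_top)
  rw [← IsLocalRing.maximalIdeal_height_eq_ringKrullDim, ← hn] at h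
  have h2 : ((1 : ℕ∞) + (n : ℕ∞) : WithBot ℕ∞) ≤ ((n : ℕ∞) : WithBot ℕ∞) :=
    (add_le_add (one_le_iInf D hD) le_rfl).trans h.ge
  norm_cast at h2
  omega

end Groth.Agent.ZBCartier
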